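import Groth.Agent.Etcore.CurveGeo164
import Groth.Agent.VarietyB.DimTop
import Groth.Agent.UnramA.SmoothFibreDim
import Groth.Agent.S2821
import Groth.Agent.S1535
import Groth.Prelude.Def_Curve

/-!
# Smooth completion of a smooth affine curve over an algebraically closed field
-/

set_option autoImplicit false

universe u

open CategoryTheory MonoidalCategory CartesianMonoidalCategory AlgebraicGeometry Limits

namespace K508.Compl

open Groth.Agent

variable {k : Type u} [Field k]

theorem curve_dim {X : Scheme.{u}} (f : X ⟶ Spec (CommRingCat.of k)) [IsIntegral X] [SmoothOfRelativeDimension 1 f] :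
    topologicalKrullDim X = 1 := by
  rw [VarietyB.DimTop.topologicalKrullDim_eq_iSup_localDim]
  have h : ∀ x : X, FlatMor.localDim X x = 1 := fun x => by
    simpa using UnramA.SmoothFibreDim.localDim_eq 1 f x
  have : Nonempty X := inferInstance
  simp_rw [h]
  exact ciSup_const

theorem isRegularLocalRing_stalk {X : Scheme.{u}} (f : X ⟶ Spec (CommRingCat.of k)) [Smooth f] (x : X) :
    IsRegularLocalRing (X.presheaf.stalk x) := by
  letI : X.Over (Spec (CommRingCat.of k)) := ⟨f⟩
  have : Smooth (X ↘ Spec (CommRingCat.of k)) := ‹Smooth f›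
  exact S1535.result k X x

theorem isNormalScheme {X : Scheme.{u}} (f : X ⟶ Spec (CommRingCat.of k)) [Smooth f] : Pi1.IsNormalScheme X := by
  intro x
  have := isRegularLocalRing_stalk f x
  obtain ⟨h1, h2⟩ := S2821.result (X.presheaf.stalk x)
  exact ⟨h1, inferInstance⟩

/-- A smooth integral separated curve over an algebraically closed field is open in a smooth proper curve. -/
theorem exists_completion [IsAlgClosed k] (C : Over (Spec (CommRingCat.of k))) [IsIntegral C.left] [IsSeparated C.hom]
    [QuasiCompact C.hom] [SmoothOfRelativeDimension 1 C.hom] :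
    ∃ (C' : Over (Spec (CommRingCat.of k))) (j : C ⟶ C'), IsOpenImmersion j.left ∧
      Curve.IsSmoothProperCurve k C'.left C'.hom := by
  have hs : Smooth C.hom := SmoothOfRelativeDimension.smooth 1 C.hom
  obtain ⟨Q, p, j, hj, hjo, hQ, -⟩ := Etcore.CurveGeo164.exists_smooth_completion k C.hom (curve_dim C.hom)
    (isNormalScheme C.hom)
  exact ⟨Over.mk p, Over.homMk j hj, hjo, hQ⟩

end K508.Compl
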