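import Groth.Agent.AbVar.K508.KLJac
import Groth.Agent.AbVar.K508.Compl
import Groth.Agent.AbVar.K506.CurvePrinciple
import Groth.Agent.AbVar.K520.Prod
import Groth.Agent.Sga7.H732.C1
import Groth.Agent.Sga7.H780.JK

/-!
# Classes algebraically equivalent to zero come from abelian varieties

`K508.KL.mem_klSub` : `k` algebraically closed, `V` smooth connected of finite type with a point `v₀`. Every class on
`V` algebraically equivalent to zero is `g^*Q` with `g : V ⟶ J` a morphism to an abelian variety, `g(v₀) = 0` and `Q`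
an additive class on `J`, algebraically equivalent to zero.
-/

set_option autoImplicit false

universe u

open CategoryTheory MonoidalCategory CartesianMonoidalCategory MonObj GrpObj AlgebraicGeometry Limits

namespace K508.KL

open Groth.Agent Groth.Agent.Grpsch.PicGrp Groth.Agent.Fga.RigGrp Groth.Agent.Sga7.H732 Groth.Agent.Pic13.H138.AlgEquiv
open K508.KLJac

variable {k : Type u} [Field k] [IsAlgClosed k]

/-- The set of classes pulled back from additive classes algebraically equivalent to zero on abelian varieties. -/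
def Kl (V : Over (Spec (CommRingCat.of k))) (v₀ : 𝟙_ (Over (Spec (CommRingCat.of k))) ⟶ V) (c : Pic V.left) : Prop :=
  ∃ (J : Over (Spec (CommRingCat.of k))) (_ : GrpObj J) (g : V ⟶ J) (Q : Pic J.left), IsProper J.hom ∧
    GeometricallyIntegral J.hom ∧ v₀ ≫ g = η[J] ∧ Q ∈ alg0 k J.left ∧ IsAdd J Q ∧ pull g.left Q = c

variable (V : Over (Spec (CommRingCat.of k))) (v₀ : 𝟙_ (Over (Spec (CommRingCat.of k))) ⟶ V)

theorem Kl.one : Kl V v₀ 1 := by
  refine ⟨𝟙_ _, inferInstance, toUnit V, 1, inferInstanceAs (IsProper (𝟙 _)), K520.Prod.geometricallyIntegral_unit,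
    toUnit_unique _ _, one_mem _, ?_, map_one _⟩
  intro T g h
  rw [map_one, map_one, map_one, _root_.mul_one]

variable {V v₀}

theorem Kl.inv {c : Pic V.left} (h : Kl V v₀ c) : Kl V v₀ c⁻¹ := by
  obtain ⟨J, _, g, Q, h1, h2, h3, h4, h5, h6⟩ := h
  refine ⟨J, inferInstance, g, Q⁻¹, h1, h2, h3, inv_mem h4, ?_, by rw [map_inv, h6]⟩
  intro T a b
  rw [map_inv, map_inv, map_inv, h5 a b, _root_.mul_inv]

theorem Kl.mul {c d : Pic V.left} (h : Kl V v₀ c) (h' : Kl V v₀ d) : Kl V v₀ (c * d) := by
  obtain ⟨J, _, g, Q, h1, h2, h3, h4, h5, h6⟩ := h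
  obtain ⟨J', _, g', Q', h1', h2', h3', h4', h5', h6'⟩ := h'
  refine ⟨J ⊗ J', inferInstance, lift g g', pull (fst J J').left Q * pull (snd J J').left Q',
    K520.Prod.isProper_tensor J J', K520.Prod.geometricallyIntegral_tensor J J', ?_, ?_, ?_, ?_⟩
  · rw [comp_lift, h3, h3']
    apply CartesianMonoidalCategory.hom_ext
    · rw [lift_fst, IsMonHom.one_hom]
    · rw [lift_snd, IsMonHom.one_hom]
  · exact mul_mem (pull_mem_alg0 _ (Over.w (fst J J')) h4) (pull_mem_alg0 _ (Over.w (snd J J')) h4')
  · intro T a b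
    have e1 : ∀ x : T ⟶ J ⊗ J', pull x.left (pull (fst J J').left Q) = pull (x ≫ fst J J').left Q := fun x => by
      rw [Over.comp_left, pull_comp]
    have e2 : ∀ x : T ⟶ J ⊗ J', pull x.left (pull (snd J J').left Q') = pull (x ≫ snd J J').left Q' := fun x => by
      rw [Over.comp_left, pull_comp]
    rw [map_mul, map_mul, map_mul, e1, e1, e1, e2, e2, e2, MonObj.mul_comp, MonObj.mul_comp, h5, h5',
      _root_.mul_mul_mul_comm]
  · rw [map_mul, ← pull_comp, ← pull_comp, ← Over.comp_left, ← Over.comp_left, lift_fst, lift_snd, h6, h6']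

variable (V v₀) in
/-- The subgroup of classes pulled back from additive classes algebraically equivalent to zero on abelian varieties. -/
def klSub : Subgroup (Pic V.left) where
  carrier := {c | Kl V v₀ c}
  one_mem' := Kl.one V v₀
  mul_mem' := fun h h' => h.mul h'
  inv_mem' := fun h => h.inv

/-- Functoriality of `C ×_k V` in `C`. -/
noncomputable def mapC {C C' : Over (Spec (CommRingCat.of k))} (j : C ⟶ C') (V : Over (Spec (CommRingCat.of k))) :
    PicF.XT C.hom V ⟶ PicF.XT C'.hom V :=
  pullback.map C.hom V.hom C'.hom V.hom j.left (𝟙 _) (𝟙 _) (by rw [Category.comp_id, Over.w])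
    (by rw [Category.comp_id, Category.id_comp])

theorem secT_mapC {C C' : Over (Spec (CommRingCat.of k))} (j : C ⟶ C') (V : Over (Spec (CommRingCat.of k)))
    (r : Spec (CommRingCat.of k) ⟶ C.left) (hr : r ≫ C.hom = 𝟙 _) :
    PicF.secT C.hom r hr V ≫ mapC j V = PicF.secT C'.hom (r ≫ j.left) (by rw [Category.assoc, Over.w, hr]) V := by
  apply pullback.hom_ext
  · rw [mapC, Category.assoc, pullback.lift_fst, ← Category.assoc]
    erw [pullback.lift_fst, pullback.lift_fst]
    rw [Category.assoc]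
  · rw [mapC, Category.assoc, pullback.lift_snd, ← Category.assoc]
    erw [pullback.lift_snd, pullback.lift_snd]
    rw [Category.comp_id]

instance {C C' : Over (Spec (CommRingCat.of k))} (j : C ⟶ C') [IsOpenImmersion j.left]
    (V : Over (Spec (CommRingCat.of k))) : IsOpenImmersion (mapC j V) := by
  have h : IsPullback (mapC j V) (pullback.fst C.hom V.hom) (pullback.fst C'.hom V.hom) j.left := by
    refine IsPullback.of_right ?_ ?_ (IsPullback.of_hasPullback C'.hom V.hom).flip
    · have e1 : mapC j V ≫ pullback.snd C'.hom V.hom = pullback.snd C.hom V.hom := by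
        rw [mapC, pullback.lift_snd, Category.comp_id]
      rw [e1, Over.w]
      exact (IsPullback.of_hasPullback C.hom V.hom).flip
    · rw [mapC, pullback.lift_fst]
  exact MorphismProperty.of_isPullback (P := @IsOpenImmersion) h.flip ‹_›

/-- `C ×_k V ⟶ V ×_k T` induced by `g : C ⟶ T`. -/
noncomputable def famMap {C T : Over (Spec (CommRingCat.of k))} (g : C ⟶ T) (V : Over (Spec (CommRingCat.of k))) :
    PicF.XT C.hom V ⟶ Pic13.prodK k V.left T.hom :=
  pullback.lift (pullback.snd C.hom V.hom) (pullback.fst C.hom V.hom ≫ g.left) (by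
    rw [Category.assoc, Over.w]
    exact pullback.condition.symm)

theorem secT_famMap {C T : Over (Spec (CommRingCat.of k))} (g : C ⟶ T) (V : Over (Spec (CommRingCat.of k)))
    (r : Spec (CommRingCat.of k) ⟶ C.left) (hr : r ≫ C.hom = 𝟙 _) :
    PicF.secT C.hom r hr V ≫ famMap g V =
      Pic13.sliceAt k V.left T.hom (r ≫ g.left) (by rw [Category.assoc, Over.w, hr]) := by
  apply pullback.hom_ext
  · rw [famMap, Category.assoc, pullback.lift_fst, Pic13.H138.Slice.sliceAt_fst]
    exact pullback.lift_snd _ _ _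
  · rw [famMap, Category.assoc, pullback.lift_snd, Pic13.H138.Slice.sliceAt_snd, ← Category.assoc]
    erw [pullback.lift_fst]
    rw [Category.assoc]
    rfl

/-- Over a curve, the classes of a family differ by a class of the subgroup. -/
theorem mem_of_curve (V : Over (Spec (CommRingCat.of k))) [Smooth V.hom] [QuasiCompact V.hom] [ConnectedSpace V.left]
    (v₀ : 𝟙_ (Over (Spec (CommRingCat.of k))) ⟶ V) (C : Over (Spec (CommRingCat.of k))) [IsIntegral C.left]
    [IsSeparated C.hom] [QuasiCompact C.hom] [SmoothOfRelativeDimension 1 C.hom] (c : Pic (PicF.XT C.hom V))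
    (s t : Spec (CommRingCat.of k) ⟶ C.left) (hs : s ≫ C.hom = 𝟙 _) (ht : t ≫ C.hom = 𝟙 _) :
    pull (PicF.secT C.hom t ht V) c * (pull (PicF.secT C.hom s hs V) c)⁻¹ ∈ klSub V v₀ := by
  obtain ⟨C', j, hj, hC'⟩ := Compl.exists_completion C
  have hprop := hC'.1
  have hsm := hC'.2.1
  have hsmY : Smooth (pullback.snd C'.hom V.hom ≫ V.hom) := inferInstance
  have hreg : Models.IsRegularScheme (PicF.XT C'.hom V) := fun y =>
    Compl.isRegularLocalRing_stalk (pullback.snd C'.hom V.hom ≫ V.hom) y
  have hln : IsLocallyNoetherian (PicF.XT C'.hom V) := 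
    LocallyOfFiniteType.isLocallyNoetherian (Y := Spec (CommRingCat.of k)) (pullback.snd C'.hom V.hom ≫ V.hom)
  have hcs : CompactSpace (PicF.XT C'.hom V) :=
    QuasiCompact.compactSpace_of_compactSpace (pullback.snd C'.hom V.hom ≫ V.hom)
  obtain ⟨d, rfl⟩ := c1 (PicF.XT C'.hom V) (PicF.XT C.hom V) (mapC j V) hreg c
  obtain ⟨J, hJ, g, Q, h1, h2, h3, h4, h5, h6⟩ := exists_jac C'.hom (s ≫ j.left) (t ≫ j.left)
    (by rw [Category.assoc, Over.w, hs]) (by rw [Category.assoc, Over.w, ht]) Sga7.H780.JK.jk hC' V v₀ d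
  refine ⟨J, hJ, g, Q, h1, h2, h3, h4, h5, ?_⟩
  rw [h6, ← pull_comp, ← pull_comp, secT_mapC, secT_mapC]

/-- **Classes algebraically equivalent to zero come from abelian varieties.** -/
theorem mem_klSub (V : Over (Spec (CommRingCat.of k))) [Smooth V.hom] [QuasiCompact V.hom] [ConnectedSpace V.left]
    (v₀ : 𝟙_ (Over (Spec (CommRingCat.of k))) ⟶ V) {c : Pic V.left} (hc : c ∈ alg0 k V.left) : c ∈ klSub V v₀ := by
  rw [mem_alg0_iff] at hc
  obtain ⟨T, q, hT1, hT2, hT3, D, t, t₀, ht, ht₀, e, e₀⟩ := hc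
  let T' : Over (Spec (CommRingCat.of k)) := Over.mk q
  have i1 : ConnectedSpace T'.left := hT1
  have i2 : LocallyOfFiniteType T'.hom := hT2
  have i3 : QuasiCompact T'.hom := hT3
  let F : (𝟙_ (Over (Spec (CommRingCat.of k))) ⟶ T') → Pic V.left ⧸ klSub V v₀ := fun x =>
    QuotientGroup.mk (pull (Pic13.sliceAt k V.left T'.hom x.left (Over.w x)) D)
  have key := K506.CurvePrinciple.const_of_curves_over T' F (by
    intro C _ _ _ g x x'
    have hs : IsSeparated C.hom := inferInstance
    have hq : QuasiCompact C.hom := inferInstance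
    refine (QuotientGroup.eq.2 ?_).symm
    have h1 := mem_of_curve V v₀ C (pull (famMap g V) D) x'.left x.left (Over.w x') (Over.w x)
    rw [← pull_comp, ← pull_comp, secT_famMap, secT_famMap, mul_comm] at h1
    exact h1) (Over.homMk t ht) (Over.homMk t₀ ht₀)
  have h1 := QuotientGroup.eq.1 key
  have h2 : (pull (Pic13.sliceAt k V.left q t ht) D)⁻¹ * pull (Pic13.sliceAt k V.left q t₀ ht₀) D ∈ klSub V v₀ := h1
  have e' : pull (Pic13.sliceAt k V.left q t ht) D = c := e
  have e₀' : pull (Pic13.sliceAt k V.left q t₀ ht₀) D = 1 := e₀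
  rw [e', e₀', _root_.mul_one] at h2
  exact inv_mem_iff.1 h2

end K508.KL
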