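import Groth.Agent.Sga3.H830.AlgGrpAb
import Groth.Agent.Sga3.H780.Pointed
import Groth.Agent.Sga3.H794.ChevKer
import Groth.Agent.FlatB.GeomRed
import Groth.Agent.Etrest.ProperOver

/-!
# Images and quotients of abelian varieties over a field

* `K508.Base.geometricallyIntegral_of_fppf` : geometric integrality descends along flat surjective morphisms of
  the source.
* `K508.Base.exists_image` : a homomorphism `f : A ⟶ B` from an abelian variety to a separated group scheme of
  finite type factors as a faithfully flat `p : A ⟶ C` followed by a closed immersion `i : C ⟶ B`, `C` an abelian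
  variety.
* `K508.Base.exists_quotient` : the quotient of an abelian variety by a closed subgroup is an abelian variety.
-/

set_option autoImplicit false

universe u

open CategoryTheory MonoidalCategory CartesianMonoidalCategory MonObj GrpObj AlgebraicGeometry Limits

namespace K508.Base

open Groth.Agent Groth.Agent.Sga3.H830.AlgGrpAb

/-- Geometric integrality passes to the target of a flat surjective morphism. -/
theorem geometricallyIntegral_of_comp {X Y S : Scheme.{u}} (p : X ⟶ Y) (g : Y ⟶ S) [Flat p] [Surjective p]
    [GeometricallyIntegral (p ≫ g)] : GeometricallyIntegral g := by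
  rw [GeometricallyIntegral.eq_geometrically]
  intro K _ y Y' fst snd h
  let X' : Scheme.{u} := pullback p fst
  have h1 : IsPullback (pullback.fst p fst) (pullback.snd p fst ≫ snd) (p ≫ g) y :=
    (IsPullback.of_hasPullback p fst).paste_vert h
  have hX : IsIntegral X' := GeometricallyIntegral.geometrically_isIntegral _ _ _ h1
  have hs : Surjective (pullback.snd p fst) := inferInstance
  have hf : Flat (pullback.snd p fst) := inferInstance
  have : AlgebraicGeometry.IsReduced Y' := FlatB.GeomRed.isReduced_of_flat_of_surjective (pullback.snd p fst)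
  have : IrreducibleSpace Y' := by
    have h2 := (IrreducibleSpace.isIrreducible_univ X').image (pullback.snd p fst)
      (pullback.snd p fst).continuous.continuousOn
    rw [Set.image_univ, (pullback.snd p fst).surjective.range_eq] at h2
    have : PreirreducibleSpace Y' := ⟨h2.2⟩
    exact ⟨⟨(pullback.snd p fst) (Classical.arbitrary X')⟩⟩
  exact (isIntegral_iff_irreducibleSpace_and_isReduced Y').2 ⟨inferInstance, inferInstance⟩

variable {K : Type u} [Field K]

theorem isAlg_of_proper (A : Over (Spec (CommRingCat.of K))) [IsProper A.hom] : IsAlg A :=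
  ⟨inferInstance, inferInstance⟩

/-- The image of a homomorphism of abelian varieties. -/
theorem exists_image (A B : Over (Spec (CommRingCat.of K))) [GrpObj A] [GrpObj B] [IsProper A.hom]
    [GeometricallyIntegral A.hom] [IsSeparated B.hom] [LocallyOfFiniteType B.hom] [QuasiCompact B.hom]
    (f : A ⟶ B) [IsMonHom f] :
    ∃ (C : Over (Spec (CommRingCat.of K))) (_ : GrpObj C) (p : A ⟶ C) (i : C ⟶ B),
      IsMonHom p ∧ IsMonHom i ∧ p ≫ i = f ∧ IsFppf p ∧ IsClosedImmersion i.left ∧
      IsProper C.hom ∧ GeometricallyIntegral C.hom := by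
  obtain ⟨C, hC, p, i, hp, hi, hpi, ⟨h1, h2, h3⟩, h4, h5⟩ :=
    exists_factor (isAlg_of_proper A) (⟨inferInstance, inferInstance⟩ : IsAlg B) f
  refine ⟨C, hC, p, i, hp, hi, hpi, ⟨h1, h2, h3⟩, h4, ?_, ?_⟩
  · have : IsProper (p.left ≫ C.hom) := by rw [Over.w]; infer_instance
    have : LocallyOfFiniteType C.hom := h5.1
    have : IsSeparated C.hom := by rw [← Over.w i]; infer_instance
    exact Etrest.ProperOver.isProper_of_surjective' p.left C.hom
  · have : GeometricallyIntegral (p.left ≫ C.hom) := by rw [Over.w]; infer_instance
    exact geometricallyIntegral_of_comp p.left C.hom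

/-- The quotient of an abelian variety by a closed subgroup. -/
theorem exists_quotient (A N : Over (Spec (CommRingCat.of K))) [GrpObj A] [GrpObj N] [IsProper A.hom]
    [GeometricallyIntegral A.hom] (n : N ⟶ A) [IsMonHom n] [IsClosedImmersion n.left] :
    ∃ (Q : Over (Spec (CommRingCat.of K))) (_ : GrpObj Q) (q : A ⟶ Q),
      IsMonHom q ∧ IsFppf q ∧ AlgGrp.IsKernel n q ∧ IsProper Q.hom ∧ GeometricallyIntegral Q.hom := by
  have : IsCommMonObj A := isCommMonObj_of_isProper_of_geometricallyIntegral A
  have hm : Mono n := by
    have : Mono n.left := inferInstance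
    exact (Over.forget _).mono_of_mono_map this
  have hN := isAlg_of_isClosedImmersion n (isAlg_of_proper A)
  have := quasiCompact_left hN (isAlg_of_proper A) n
  have := hN.1
  have := flat_hom N
  have := flat_hom A
  have hnorm : AlgGrp.IsNormalHom n := by
    intro T g x
    refine ⟨x, ?_⟩
    rw [mul_comm g, mul_inv_cancel_right]
  obtain ⟨Q, hQ, q, hq, h1, h2, h3, h4, h5, -, -⟩ := S3030.result K N A n hnorm
  have hQ' := isAlg_of_fppf q (isAlg_of_proper A)
  refine ⟨Q, hQ, q, hq, ⟨h1, h2, h3⟩, h4, ?_, ?_⟩
  · have : IsProper (q.left ≫ Q.hom) := by rw [Over.w]; infer_instance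
    have : LocallyOfFiniteType Q.hom := hQ'.1
    exact Etrest.ProperOver.isProper_of_surjective' q.left Q.hom
  · have : GeometricallyIntegral (q.left ≫ Q.hom) := by rw [Over.w]; infer_instance
    exact geometricallyIntegral_of_comp q.left Q.hom

end K508.Base
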