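import Groth.Agent.S4101
import Groth.Agent.Sga3.H794.ChevKer
import Groth.Agent.Sga3C.ActBase
import Groth.Agent.Sga3.H828.SubgrpObj
import Groth.Agent.Grpsch.KerMul
import Groth.Prelude.Def_W4bk6langav68Chow

/-!
# The core of a homomorphism `G_K ⟶ X`

`K/k` a field extension, `G` a group scheme over `k`, `X` a separated group scheme over `K` and `μ : G_K ⟶ X` a
homomorphism. There is a closed subgroup `h : H ⟶ G` over `k` such that a `T`-point `x` of `G` factors through `H` if
and only if `x_K ≫ μ = 1`.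
-/

set_option autoImplicit false

universe u

open CategoryTheory MonoidalCategory CartesianMonoidalCategory MonObj GrpObj AlgebraicGeometry Limits

namespace K508.Core

open Groth.Agent

section free

/-- Projectivity of the global sections of a scheme isomorphic to `Spec B` over `Spec R`. -/
theorem projective_of_iso_spec {X : Scheme.{u}} {R' S' : Type u} [CommRing R'] [CommRing S'] [Algebra R' S']
    (f : X ⟶ Spec (.of R')) (e : X ⟶ Spec (.of S')) [IsIso e]
    (w : e ≫ Spec.map (CommRingCat.ofHom (algebraMap R' S')) = f) (h : Module.Projective R' S') :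
    @Module.Projective Γ(Spec (.of R'), ⊤) _ Γ(X, ⊤) _ (f.appTop).hom.toAlgebra.toModule := by
  let := (f.appTop).hom.toAlgebra
  have he : IsIso e.appTop := inferInstanceAs (IsIso (e.app ⊤))
  let σ : R' ≃+* Γ(Spec (.of R'), ⊤) := (Scheme.ΓSpecIso (.of R')).symm.commRingCatIsoToRingEquiv
  let τ : S' ≃+* Γ(X, ⊤) := ((Scheme.ΓSpecIso (.of S')).symm ≪≫ asIso e.appTop).commRingCatIsoToRingEquiv
  have hcomm : ∀ r : R', τ (algebraMap R' S' r) = f.appTop.hom (σ r) := fun r => by
    have h1 := congr($(Scheme.ΓSpecIso_inv_naturality (CommRingCat.ofHom (algebraMap R' S'))).hom r)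
    have h2 : f.appTop = (Spec.map (CommRingCat.ofHom (algebraMap R' S'))).appTop ≫ e.appTop := by
      rw [← w, Scheme.Hom.comp_appTop]
    rw [h2]
    change e.appTop.hom ((Scheme.ΓSpecIso (.of S')).inv.hom (algebraMap R' S' r)) =
      e.appTop.hom ((Spec.map (CommRingCat.ofHom (algebraMap R' S'))).appTop.hom
        ((Scheme.ΓSpecIso (.of R')).inv.hom r))
    exact congrArg _ h1
  have i1 : RingHomInvPair (σ : R' →+* Γ(Spec (.of R'), ⊤)) (σ.symm : Γ(Spec (.of R'), ⊤) →+* R') :=
    RingHomInvPair.of_ringEquiv σ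
  have i2 : RingHomInvPair (σ.symm : Γ(Spec (.of R'), ⊤) →+* R') (σ : R' →+* Γ(Spec (.of R'), ⊤)) :=
    RingHomInvPair.of_ringEquiv σ.symm
  let e' : S' ≃ₛₗ[(σ : R' →+* Γ(Spec (.of R'), ⊤))] Γ(X, ⊤) :=
    { τ.toAddEquiv with
      map_smul' := fun r s => by
        change τ (r • s) = f.appTop.hom (σ r) * τ s
        rw [Algebra.smul_def, map_mul, hcomm] }
  exact Module.Projective.of_equiv e'

variable {k K : Type u} [Field k] [Field K] [Algebra k K]

/-- The projection of a base change to an extension field is essentially free. -/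
theorem isEssentiallyFree_fst (X : Over (Spec (CommRingCat.of k))) :
    SGA3x.IsEssentiallyFree (pullback.fst X.hom (AbVar.ext k K)) := by
  intro s
  obtain ⟨U, hU, hsU, -⟩ := exists_isAffineOpen_mem_and_subset (X := X.left) (x := s) (U := ⊤) trivial
  refine ⟨U, hsU, hU, Spec Γ(X.left, U), inferInstance, hU.isoSpec.inv, inferInstance, inferInstance, ?_⟩
  set f := pullback.fst X.hom (AbVar.ext k K) with hf
  set g : Spec Γ(X.left, U) ⟶ X.left := hU.isoSpec.inv ≫ U.ι with hg
  intro x
  -- the structure morphism of the chart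
  let φ : CommRingCat.of k ⟶ Γ(X.left, U) := Spec.preimage (g ≫ X.hom)
  have hφ : Spec.map φ = g ≫ X.hom := Spec.map_preimage _
  let _ : Algebra k Γ(X.left, U) := φ.hom.toAlgebra
  have h1 : IsPullback (pullback.snd f g) (pullback.fst f g ≫ pullback.snd X.hom (AbVar.ext k K))
      (g ≫ X.hom) (AbVar.ext k K) :=
    ((IsPullback.of_hasPullback f g).paste_horiz (IsPullback.of_hasPullback X.hom (AbVar.ext k K)).flip).flip
  have h2 : IsPullback (Spec.map (CommRingCat.ofHom (algebraMap Γ(X.left, U) (TensorProduct k Γ(X.left, U) K))))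
      (Spec.map (CommRingCat.ofHom (Algebra.TensorProduct.includeRight (R := k) (A := Γ(X.left, U)) (B := K)).toRingHom))
      (g ≫ X.hom) (AbVar.ext k K) := by
    rw [← hφ]
    exact ((CommRingCat.isPushout_tensorProduct k Γ(X.left, U) K).op.map Scheme.Spec).flip
  let e₀ := h1.isoIsPullback _ _ h2
  have he₀ : e₀.hom ≫ Spec.map (CommRingCat.ofHom (algebraMap Γ(X.left, U) (TensorProduct k Γ(X.left, U) K))) =
      pullback.snd f g := h1.isoIsPullback_hom_fst _ _ h2
  have hP : IsAffine (pullback f g) := IsAffine.of_isIso e₀.hom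
  refine ⟨⊤, trivial, isAffineOpen_top _, ?_⟩
  refine projective_of_iso_spec (R' := Γ(X.left, U)) (S' := TensorProduct k Γ(X.left, U) K) _
    ((Scheme.topIso (pullback f g)).hom ≫ e₀.hom) ?_ inferInstance
  rw [Category.assoc, he₀]
  rfl

end free

section core

variable {k K : Type u} [Field k] [Field K] [Algebra k K]

/-- A morphism is an isomorphism after base change along a monomorphism iff it factors. -/
theorem isIso_snd_iff {N Z W : Scheme.{u}} (j : N ⟶ Z) [Mono j] (a : W ⟶ Z) :
    IsIso (pullback.snd j a) ↔ ∃ l : W ⟶ N, l ≫ j = a := by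
  constructor
  · intro h
    refine ⟨inv (pullback.snd j a) ≫ pullback.fst j a, ?_⟩
    rw [Category.assoc, pullback.condition, IsIso.inv_hom_id_assoc]
  · rintro ⟨l, hl⟩
    have h1 : pullback.lift l (𝟙 W) (by rw [hl, Category.id_comp]) ≫ pullback.snd j a = 𝟙 W :=
      pullback.lift_snd _ _ _
    have : IsSplitEpi (pullback.snd j a) := ⟨⟨⟨_, h1⟩⟩⟩
    exact isIso_of_mono_of_isSplitEpi _

/-- The core of a homomorphism `G_K ⟶ X`. -/
theorem exists_core (G : Over (Spec (CommRingCat.of k))) [GrpObj G] (X : Over (Spec (CommRingCat.of K))) [GrpObj X]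
    [IsSeparated X.hom] (m : Red.bc (AbVar.ext k K) G ⟶ X) [IsMonHom m] :
    ∃ (H : Over (Spec (CommRingCat.of k))) (_ : GrpObj H) (h : H ⟶ G), IsMonHom h ∧ IsClosedImmersion h.left ∧
      ∀ (T : Over (Spec (CommRingCat.of k))) (x : T ⟶ G),
        (∃ y : T ⟶ H, y ≫ h = x) ↔ (Over.pullback (AbVar.ext k K)).map x ≫ m = 1 := by
  obtain ⟨N, _, j, hj, hN⟩ := Grpsch.KerMul.exists_kernel m
  have hjc : IsClosedImmersion j.left := Sga3.H794.ChevKer.isClosedImmersion_ker j m hN
  obtain ⟨T₀, t, ht, hT, -⟩ := S4101.result G.left (Red.bc (AbVar.ext k K) G).left N.left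
    (pullback.fst G.hom (AbVar.ext k K)) (isEssentiallyFree_fst G) j.left
  let H : Over (Spec (CommRingCat.of k)) := Over.mk (t ≫ G.hom)
  let h : H ⟶ G := Over.homMk t rfl
  have hh : IsClosedImmersion h.left := ht
  have hm : Mono h := by
    have : Mono h.left := inferInstance
    exact (Over.forget _).mono_of_mono_map this
  have key : ∀ (T : Over (Spec (CommRingCat.of k))) (x : T ⟶ G),
      (∃ y : T ⟶ H, y ≫ h = x) ↔ (Over.pullback (AbVar.ext k K)).map x ≫ m = 1 := by
    intro T x
    have h1 : (∃ y : T ⟶ H, y ≫ h = x) ↔ ∃ g' : T.left ⟶ T₀, g' ≫ t = x.left := by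
      constructor
      · rintro ⟨y, rfl⟩
        exact ⟨y.left, rfl⟩
      · rintro ⟨g', hg'⟩
        refine ⟨Over.homMk g' ?_, ?_⟩
        · change g' ≫ t ≫ G.hom = T.hom
          rw [reassoc_of% hg', Over.w]
        · ext1
          exact hg'
    rw [h1, hT, isIso_snd_iff]
    have h2 := Sga3C.ActBase.isPullback_map_left (AbVar.ext k K) x
    let e₀ := h2.isoIsPullback _ _ (IsPullback.of_hasPullback (pullback.fst G.hom (AbVar.ext k K)) x.left)
    have he₀ : e₀.hom ≫ pullback.fst (pullback.fst G.hom (AbVar.ext k K)) x.left =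
        ((Over.pullback (AbVar.ext k K)).map x).left := h2.isoIsPullback_hom_fst _ _ _
    constructor
    · rintro ⟨l, hl⟩
      let l' : (Over.pullback (AbVar.ext k K)).obj T ⟶ N := Over.homMk (e₀.hom ≫ l) (by
        rw [← Over.w j, Category.assoc, reassoc_of% hl, reassoc_of% he₀]
        exact Over.w _)
      have hl' : l' ≫ j = (Over.pullback (AbVar.ext k K)).map x := by
        ext1
        change (e₀.hom ≫ l) ≫ j.left = _
        rw [Category.assoc, hl, he₀]
      rw [← hl']
      exact Sga3.H794.ChevKer.ker_comp hN l'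
    · intro hx
      obtain ⟨y, hy⟩ := Sga3.H794.ChevKer.exists_lift_ker hN _ hx
      refine ⟨e₀.inv ≫ y.left, ?_⟩
      rw [Category.assoc, ← Over.comp_left, hy, ← he₀, Iso.inv_hom_id_assoc]
  obtain ⟨hH, hH'⟩ := Sga3.H828.SubgrpObj.exists_grpObj (fun T : Over (Spec (CommRingCat.of k)) =>
    ({
      carrier := {x | (Over.pullback (AbVar.ext k K)).map x ≫ m = 1}
      mul_mem' := fun {x y} hx hy => by
        simp only [Set.mem_ofPred_eq] at *
        rw [Functor.map_mul, MonObj.mul_comp, hx, hy, _root_.mul_one]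
      one_mem' := by
        simp only [Set.mem_ofPred_eq]
        rw [Functor.map_one, MonObj.one_comp]
      inv_mem' := fun {x} hx => by
        simp only [Set.mem_ofPred_eq] at *
        rw [Functor.map_inv', GrpObj.inv_comp, hx, inv_one] } : Subgroup (T ⟶ G)))
    (fun {T T'} f x hx => by
      change (Over.pullback (AbVar.ext k K)).map (f ≫ x) ≫ m = 1
      change (Over.pullback (AbVar.ext k K)).map x ≫ m = 1 at hx
      rw [Functor.map_comp, Category.assoc, hx, MonObj.comp_one]) h (fun T g => (key T g).symm)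
  exact ⟨H, hH, h, hH', hh, key⟩

end core

end K508.Core
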