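import Groth.Agent.Sga7.H732.Hedge
import Groth.Agent.Sga7.H515.FKDeg
import Groth.Agent.Pic13.H138.AlgEquiv
import Groth.Agent.Sga3.H780.PointedProd

/-!
# The Jacobian and families of classes parametrised by a curve

`K508.KLJac.exists_jac` : `C` a smooth proper curve over an algebraically closed field with points `s`, `t`,
`V` connected with a point `v₀`, `c` a class on `C × V`. Then `c|_{t × V} - c|_{s × V} = g^*Q` for a morphism `g` from
`V` to an abelian variety `J` with `g(v₀) = 0` and an additive class `Q` on `J` algebraically equivalent to zero.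
-/

set_option autoImplicit false

universe u

open CategoryTheory MonoidalCategory CartesianMonoidalCategory MonObj GrpObj AlgebraicGeometry Limits

namespace K508.KLJac

open Groth.Agent Groth.Agent.Grpsch.PicGrp Groth.Agent.Fga.RigGrp Groth.Agent.Sga7.H732 Groth.Agent.Pic13.H138.AlgEquiv

variable {k : Type u} [Field k]

/-- A class `Q` on a group scheme is additive if `(g * h)^*Q = g^*Q · h^*Q` for all points `g`, `h`. -/
def IsAdd {S : Scheme.{u}} (J : Over S) [GrpObj J] (Q : Pic J.left) : Prop :=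
  ∀ {T : Over S} (g h : T ⟶ J), pull (g * h).left Q = pull g.left Q * pull h.left Q

theorem IsAdd.pull_one {S : Scheme.{u}} {J : Over S} [GrpObj J] {Q : Pic J.left} (h : IsAdd J Q) (T : Over S) :
    pull (1 : T ⟶ J).left Q = 1 := by
  have h1 := h (1 : T ⟶ J) 1
  rw [_root_.mul_one] at h1
  exact (left_eq_mul.mp h1)

theorem IsAdd.pull_inv {S : Scheme.{u}} {J : Over S} [GrpObj J] {Q : Pic J.left} (h : IsAdd J Q) {T : Over S}
    (g : T ⟶ J) : pull (g⁻¹).left Q = (pull g.left Q)⁻¹ := by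
  have h1 := h g g⁻¹
  rw [mul_inv_cancel, h.pull_one] at h1
  exact (eq_inv_of_mul_eq_one_right h1.symm)

section jac

variable {C : Scheme.{u}} (f : C ⟶ Spec (CommRingCat.of k))
  (s t : Spec (CommRingCat.of k) ⟶ C) (hs : s ≫ f = 𝟙 _) (ht : t ≫ f = 𝟙 _)

theorem isAdd_of_isJac {J : Over (Spec (CommRingCat.of k))} [GrpObj J] {ξ : Pic (PicF.XT f J)}
    (h : Hedge.IsJac f s hs J ξ) : IsAdd J (pull (PicF.secT f t ht J) ξ) := by
  intro T g g'
  have key : ∀ x : T ⟶ J, pull x.left (pull (PicF.secT f t ht J) ξ) = pull (PicF.secT f t ht T) (pull (PicF.XTmap f x) ξ) := by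
    intro x
    rw [← pull_comp, ← pull_comp, secT_XTmap]
  rw [key, key, key, h.mul, map_mul]

/-- The swap `J ×_k C ⟶ C ×_k J`. -/
noncomputable def swap (J : Over (Spec (CommRingCat.of k))) : Pic13.prodK k J.left f ⟶ PicF.XT f J :=
  pullback.lift (pullback.snd (J.left ↘ Spec (CommRingCat.of k)) f) (pullback.fst (J.left ↘ Spec (CommRingCat.of k)) f)
    pullback.condition.symm

theorem swap_fst (J : Over (Spec (CommRingCat.of k))) :
    swap f J ≫ pullback.fst f J.hom = pullback.snd (J.left ↘ Spec (CommRingCat.of k)) f := pullback.lift_fst _ _ _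

theorem swap_snd (J : Over (Spec (CommRingCat.of k))) :
    swap f J ≫ pullback.snd f J.hom = pullback.fst (J.left ↘ Spec (CommRingCat.of k)) f := pullback.lift_snd _ _ _

theorem sliceAt_swap (J : Over (Spec (CommRingCat.of k))) :
    Pic13.sliceAt k J.left f t ht ≫ swap f J = PicF.secT f t ht J := by
  apply pullback.hom_ext
  · rw [Category.assoc, swap_fst, Pic13.H138.Slice.sliceAt_snd]
    exact (pullback.lift_fst _ _ _).symm
  · rw [Category.assoc, swap_snd, Pic13.H138.Slice.sliceAt_fst]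
    exact (pullback.lift_snd _ _ _).symm

theorem mem_alg0_of_isJac [IsAlgClosed k] (hC : Curve.IsSmoothProperCurve k C f) {J : Over (Spec (CommRingCat.of k))} [GrpObj J]
    {ξ : Pic (PicF.XT f J)} (h : Hedge.IsJac f s hs J ξ) : pull (PicF.secT f t ht J) ξ ∈ alg0 k J.left := by
  rw [mem_alg0_iff]
  obtain ⟨hp, hsm, hint, hdim⟩ := hC
  have hcc : ConnectedSpace C := inferInstance
  refine ⟨C, f, hcc, inferInstance, inferInstance,
    pull (swap f J) ξ, t, s, ht, hs, ?_, ?_⟩
  · rw [Pic13.H138.Slice.fibCl, ← pull_comp, sliceAt_swap]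
  · rw [Pic13.H138.Slice.fibCl, ← pull_comp, sliceAt_swap]
    exact h.mem

theorem pull_of_field (m : Pic (Spec (CommRingCat.of k))) : m = 1 := pic_spec_local k m

/-- A family of classes on `V` parametrised by a smooth proper curve comes from the Jacobian of the curve. -/
theorem exists_jac [IsAlgClosed k] (hJK : Hedge.JK.{u}) (hC : Curve.IsSmoothProperCurve k C f) (V : Over (Spec (CommRingCat.of k))) [ConnectedSpace V.left]
    (v₀ : 𝟙_ (Over (Spec (CommRingCat.of k))) ⟶ V) (c : Pic (PicF.XT f V)) :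
    ∃ (J : Over (Spec (CommRingCat.of k))) (_ : GrpObj J) (g : V ⟶ J) (Q : Pic J.left), IsProper J.hom ∧
      GeometricallyIntegral J.hom ∧ v₀ ≫ g = η[J] ∧ Q ∈ alg0 k J.left ∧ IsAdd J Q ∧
      pull g.left Q = pull (PicF.secT f t ht V) c * (pull (PicF.secT f s hs V) c)⁻¹ := by
  have hgi : GeometricallyIntegral f := by
    obtain ⟨hp, hsm, hint, hdim⟩ := hC
    have : IsIntegral (Over.mk f).left := hint
    have : Smooth (Over.mk f).hom := hsm
    exact Sga3.H780.PointedProd.geometricallyIntegral (Over.mk f)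
  obtain ⟨J, _, ξ, hJp, hJg, hξ⟩ := hJK k C f hC hgi s hs
  let w₀ : Spec (CommRingCat.of k) ⟶ V.left := v₀.left
  have hw₀ : w₀ ≫ V.hom = 𝟙 (Spec (CommRingCat.of k)) := Over.w v₀
  let j₀ : C ⟶ PicF.XT f V := pullback.lift (𝟙 C) (f ≫ w₀) (by
    rw [Category.assoc, hw₀, Category.id_comp, Category.comp_id])
  let c₁ : Pic (PicF.XT f V) := c * (pull (pullback.fst f V.hom) (pull j₀ c))⁻¹
  have hc₁ : pull (PicF.XTmap f v₀) c₁ = 1 := by
    have h1 : PicF.XTmap f v₀ ≫ pullback.fst f V.hom ≫ j₀ = PicF.XTmap f v₀ := by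
      apply pullback.hom_ext
      · rw [Category.assoc, Category.assoc, pullback.lift_fst, Category.comp_id]
      · rw [Category.assoc, Category.assoc, pullback.lift_snd]
        have h2 : PicF.XTmap f v₀ ≫ pullback.fst f V.hom = pullback.fst f (𝟙_ (Over (Spec (CommRingCat.of k)))).hom :=
          XTmap_fst f v₀
        have h3 : PicF.XTmap f v₀ ≫ pullback.snd f V.hom = pullback.snd f (𝟙_ (Over (Spec (CommRingCat.of k)))).hom ≫ w₀ :=
          XTmap_XTproj f v₀
        have h4 : pullback.fst f (𝟙_ (Over (Spec (CommRingCat.of k)))).hom ≫ f =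
          pullback.snd f (𝟙_ (Over (Spec (CommRingCat.of k)))).hom := pullback.condition.trans (Category.comp_id _)
        rw [reassoc_of% h2, reassoc_of% h4, h3]
    rw [map_mul, map_inv, ← pull_comp, ← pull_comp, Category.assoc, h1, mul_inv_cancel]
  let c₂ : Pic (PicF.XT f V) := Fga.RigGrp.norm f s hs V c₁
  have hc₂ : pull (PicF.XTmap f v₀) c₂ = 1 := by
    rw [pull_norm, hc₁, map_one]
  have hne : Nonempty (𝟙_ (Over (Spec (CommRingCat.of k)))).left := inferInstanceAs (Nonempty (PrimeSpectrum k))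
  have hdeg := Sga7.H515.FKDeg.hasFibreDegreeZeroCl f hC V (𝟙_ _) v₀ c₂ hc₂
  obtain ⟨g, hg, -⟩ := hξ.univ V c₂ (norm_mem f s hs V c₁) hdeg
  refine ⟨J, inferInstance, g, pull (PicF.secT f t ht J) ξ, hJp, hJg, ?_, mem_alg0_of_isJac f s t hs ht hC hξ,
    isAdd_of_isJac f s t hs ht hξ, ?_⟩
  · have h1 : pull (PicF.XTmap f (v₀ ≫ g)) ξ = 1 := by
      rw [XTmap_comp, pull_comp]
      rw [hg, hc₂]
    have h2 : pull (PicF.XTmap f (1 : 𝟙_ (Over (Spec (CommRingCat.of k))) ⟶ J)) ξ = 1 := by
      have h3 := hξ.mul (1 : 𝟙_ (Over (Spec (CommRingCat.of k))) ⟶ J) 1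
      rw [_root_.mul_one] at h3
      exact (left_eq_mul.mp h3)
    have hcs : ConnectedSpace (𝟙_ (Over (Spec (CommRingCat.of k)))).left := inferInstanceAs (ConnectedSpace (PrimeSpectrum k))
    have h3 := hξ.univ (𝟙_ (Over (Spec (CommRingCat.of k)))) 1 (one_mem _)
      (Sga7.H515.FKDeg.hasFibreDegreeZeroCl f hC (𝟙_ _) (𝟙_ _) (𝟙 _) 1 (map_one _))
    rw [MonObj.one_eq_one]
    exact h3.unique h1 h2
  · rw [← pull_comp, ← secT_XTmap, pull_comp, hg]
    change pull (PicF.secT f t ht V) (Fga.RigGrp.norm f s hs V c₁) = _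
    have h4 : ∀ (r : Spec (CommRingCat.of k) ⟶ C) (hr : r ≫ f = 𝟙 _) (m : Pic C),
        pull (PicF.secT f r hr V) (pull (pullback.fst f V.hom) m) = 1 := by
      intro r hr m
      rw [← pull_comp, secT_fst, pull_comp, pull_of_field (pull r m), map_one]
    have h5 : ∀ (r : Spec (CommRingCat.of k) ⟶ C) (hr : r ≫ f = 𝟙 _),
        pull (PicF.secT f r hr V) c₁ = pull (PicF.secT f r hr V) c := by
      intro r hr
      rw [map_mul, map_inv, h4, inv_one, _root_.mul_one]
    have h6 : ∀ x : Pic V.left, pull (PicF.secT f t ht V) (pull (PicF.XTproj f V) x) = x := fun x => by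
      rw [← pull_comp, secT_XTproj, pull_id]
    rw [norm_apply, map_div, h6, h5, h5, div_eq_mul_inv]

end jac

end K508.KLJac
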